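import Groth.Agent.GerbFin99.LocFree
import Groth.Agent.Desc59.ModDesc
import Groth.Agent.SpPts86.Subspace
import Groth.Prelude.Def_TwSh
import Groth.Prelude.Def_StMod3
import Groth.Prelude.Def_StMod6

/-!
Finiteness properties of modules descend along locally surjective functors.
-/

set_option autoImplicit false
set_option linter.style.haveILetI false
set_option backward.isDefEq.respectTransparency.types false

noncomputable section

universe u v w v' w'

open CategoryTheory CategoryTheory.Limits AlgebraicGeometry TopologicalSpace Opposite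

namespace Groth.Agent.GerbFin99

variable {S : Scheme.{u}}

/-- A covering sieve of the fppf site contains a jointly surjective family of flat locally finitely presented maps. -/
theorem exists_flat_mem_of_mem_J {T : Over S} {R : Sieve T} (hR : R ∈ AlgSp.J S T) (t : ↥T.left) :
    ∃ (V : Over S) (g : V ⟶ T) (v : ↥V.left), R g ∧ g.left v = t ∧ Flat g.left ∧
      LocallyOfFinitePresentation g.left := by
  have h : Sieve.overEquiv T R ∈ Scheme.fppfTopology T.left :=
    (GrothendieckTopology.mem_over_iff _ _).1 hR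
  have : (@Flat ⊓ @LocallyOfFinitePresentation :
      MorphismProperty Scheme.{u}).IsStableUnderBaseChange :=
    MorphismProperty.IsStableUnderBaseChange.inf
  have : MorphismProperty.IsMultiplicative
      (@Flat ⊓ @LocallyOfFinitePresentation : MorphismProperty Scheme.{u}) :=
    { id_mem := fun X => ⟨(inferInstance : Flat (𝟙 X)),
        (inferInstance : LocallyOfFinitePresentation (𝟙 X))⟩
      comp_mem := fun f g ⟨_, _⟩ ⟨_, _⟩ => ⟨(inferInstance : Flat (f ≫ g)),
        (inferInstance : LocallyOfFinitePresentation (f ≫ g))⟩ }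
  obtain ⟨𝒰, h𝒰⟩ := Scheme.exists_cover_of_mem_grothendieckTopology
    (P := @Flat ⊓ @LocallyOfFinitePresentation) h
  obtain ⟨i, y, hy⟩ := 𝒰.exists_eq t
  exact ⟨_, _, y, (Sieve.overEquiv_iff R _).1 (h𝒰 _ _ ⟨i⟩), hy, (𝒰.map_prop i).1, (𝒰.map_prop i).2⟩

theorem cast_iff (P : ∀ ⦃X : Scheme.{u}⦄, X.Modules → Prop) {X T : Scheme.{u}} (h : X = T) (M : X.Modules) :
    P (StMod.castMod h M) ↔ P M := by
  subst h; exact Iff.rfl

/-- Finite presentation descends along a flat quasi-compact cover. -/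
theorem isFP_of_pullback {P : Scheme.{u}} {ι : Type u} {Q : ι → Scheme.{u}} (g : ∀ i, Q i ⟶ P)
    [QuasiCompactCover (⟨ι, Q, g⟩ : PreZeroHypercover.{u} P)] (hflat : ∀ i, Flat (g i))
    (F : P.Modules) [F.IsQuasicoherent]
    (h : ∀ i, CohB1.IsFP ((Scheme.Modules.pullback (g i)).obj F)) : CohB1.IsFP F := by
  refine Props58.LocFree.isFP_of_sections F (fun W : P.affineOpens => W.1) (iSup_affineOpens_eq_top P)
    (fun W => W.2) fun W => ?_
  exact Desc59.ModDesc.desc_affine g hflat F (fun R _ M _ _ => Module.FinitePresentation R M)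
    (fun R _ n T _ _ _ hT M _ _ h' => FFDesc84.finitePresentation_of_forall T hT M fun k => by
      obtain ⟨N, _, _, hN, ⟨e⟩⟩ := h' k
      exact Module.FinitePresentation.of_equiv e)
    (fun i V hV => Props58.LocFree.finitePresentation_sections _ (hM := h i) hV) W.1 W.2

variable {𝒳 : BasedCategory.{v, w} (Over S)} {𝒴 : BasedCategory.{v', w'} (Over S)}

/-- A property of modules stable under isomorphisms and descending along flat quasi-compact covers passes from an
inverse image along a locally surjective functor to the module. -/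
theorem prop_of_comap (P : ∀ ⦃X : Scheme.{u}⦄, X.Modules → Prop)
    (hiso : ∀ ⦃X : Scheme.{u}⦄ (M N : X.Modules), Nonempty (M ≅ N) → P M → P N)
    (hdesc : ∀ ⦃T : Scheme.{u}⦄ (ι : Type u) (Q : ι → Scheme.{u}) (g : ∀ i, Q i ⟶ T)
      [QuasiCompactCover (⟨ι, Q, g⟩ : PreZeroHypercover.{u} T)] (_ : ∀ i, Flat (g i))
      (F : T.Modules) [F.IsQuasicoherent], (∀ i, P ((Scheme.Modules.pullback (g i)).obj F)) → P F)
    {π : 𝒳 ⥤ᵇ 𝒴} (hπ : Gerb.LocSurjObj (QuotSh.J Scheme.fppfPrecoverage S) π) (G : StMod.QCoh 𝒴)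
    (h : ∀ ξ, P ((StMod.Mod.comap π G.obj).obj ξ)) (η : 𝒴.obj) : P (G.obj.obj η) := by
  obtain ⟨R, hR, hsurj⟩ := hπ η
  choose V f v hRf hv hfl hfp using fun t : ↥(StMod.sch 𝒴 η) => exists_flat_mem_of_mem_J hR t
  choose x g hg using fun t => hsurj (f t) (hRf t)
  let q : ∀ t, StMod.sch 𝒴 (π.obj (x t)) ⟶ StMod.sch 𝒴 η := fun t => StMod.bmap 𝒴 (g t)
  have hq : ∀ t, q t = (eqToHom (@IsHomLift.domain_eq _ _ _ _ 𝒴.p _ _ _ _ (f t) (g t) (hg t))).left ≫
      (f t).left := fun t => by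
    have e := @IsHomLift.fac' _ _ _ _ 𝒴.p _ _ _ _ (f t) (g t) (hg t)
    simp only [q, StMod.bmap, e]
    simp
  haveI hiso' : ∀ t, IsIso (eqToHom (@IsHomLift.domain_eq _ _ _ _ 𝒴.p _ _ _ _ (f t) (g t) (hg t))).left :=
    fun t => inferInstanceAs (IsIso ((Over.forget S).map (eqToHom _)))
  have hqf : ∀ t, Flat (q t) := fun t => by
    haveI := hfl t
    haveI := hiso' t
    rw [hq t]
    exact MorphismProperty.comp_mem (W := @Flat) _ _
      (inferInstance : Flat (eqToHom (@IsHomLift.domain_eq _ _ _ _ 𝒴.p _ _ _ _ (f t) (g t) (hg t))).left) (hfl t)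
  have hqo : ∀ t, IsOpenMap (q t).base := fun t => by
    haveI := hfl t; haveI := hfp t; haveI := hiso' t
    haveI : UniversallyOpen (q t) := by
      rw [hq t]
      exact MorphismProperty.comp_mem (W := @UniversallyOpen) _ _
        (inferInstance : UniversallyOpen
          (eqToHom (@IsHomLift.domain_eq _ _ _ _ 𝒴.p _ _ _ _ (f t) (g t) (hg t))).left)
        (inferInstance : UniversallyOpen (f t).left)
    exact (q t).isOpenMap
  have hcov : ∀ t, ∃ i w, (q i) w = t := fun t => by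
    haveI := hiso' t
    obtain ⟨w, hw⟩ := (eqToHom (@IsHomLift.domain_eq _ _ _ _ 𝒴.p _ _ _ _ (f t) (g t) (hg t))).left.surjective (v t)
    exact ⟨t, w, by rw [hq t]; exact (congrArg (f t).left hw).trans (hv t)⟩
  let 𝒰 : Scheme.Cover.{u} (Scheme.precoverage @Flat) (StMod.sch 𝒴 η) :=
    Scheme.Cover.mkOfCovers _ (fun t => StMod.sch 𝒴 (π.obj (x t))) q hcov hqf
  haveI : QuasiCompactCover (⟨_, fun t => StMod.sch 𝒴 (π.obj (x t)), q⟩ :
      PreZeroHypercover.{u} (StMod.sch 𝒴 η)) :=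
    QuasiCompactCover.of_isOpenMap (𝒰 := 𝒰) hqo
  haveI : (G.obj.obj η).IsQuasicoherent := G.property.2 η
  refine hdesc _ _ q hqf (G.obj.obj η) fun t => ?_
  haveI := G.property.1 (g t) (g := q t) rfl
  refine hiso _ _ ⟨(asIso (((Scheme.Modules.pullbackPushforwardAdjunction (q t)).homEquiv _ _).symm
    (G.obj.map (g t) (g := q t) rfl))).symm⟩ ?_
  exact (cast_iff P _ _).mp (h (x t))

theorem finiteness_iff_comap {π : 𝒳 ⥤ᵇ 𝒴} (hπ : Gerb.LocSurjObj (QuotSh.J Scheme.fppfPrecoverage S) π)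
    (G : StMod.QCoh 𝒴) :
    (G.obj.IsFinType ↔ ((StMod.comapQ π).obj G).obj.IsFinType) ∧
      (G.obj.IsFinPres ↔ ((StMod.comapQ π).obj G).obj.IsFinPres) ∧
      ((G.obj.IsLocFree ∧ G.obj.IsFinType) ↔
        (((StMod.comapQ π).obj G).obj.IsLocFree ∧ ((StMod.comapQ π).obj G).obj.IsFinType)) := by
  have up : ∀ (P : ∀ ⦃X : Scheme.{u}⦄, X.Modules → Prop), (∀ η, P (G.obj.obj η)) →
      ∀ ξ, P ((StMod.Mod.comap π G.obj).obj ξ) := fun P h ξ => (cast_iff P _ _).mpr (h _)
  have hFT : (∀ ξ, ((StMod.Mod.comap π G.obj).obj ξ).IsFiniteType) → ∀ η, (G.obj.obj η).IsFiniteType := fun h =>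
    prop_of_comap (fun (X : Scheme.{u}) (M : X.Modules) => M.IsFiniteType)
      (fun _ M N ⟨e⟩ hM => QC70.isFiniteType_of_epi (M := M) e.hom)
      (fun T ι Q g _ hg F _ hF => Desc59.ModDesc.isFiniteType_of_pullback g hg F) hπ G h
  refine ⟨⟨up (fun (X : Scheme.{u}) (M : X.Modules) => M.IsFiniteType), hFT⟩, ⟨up (fun (X : Scheme.{u}) (M : X.Modules) => CohB1.IsFP M), ?_⟩,
    ⟨fun ⟨h1, h2⟩ => ⟨up (fun (X : Scheme.{u}) (M : X.Modules) => SheafOfModules.IsLocallyFree (R := X.ringCatSheaf) M) h1,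
      up (fun (X : Scheme.{u}) (M : X.Modules) => M.IsFiniteType) h2⟩, fun ⟨h1, h2⟩ => ⟨?_, hFT h2⟩⟩⟩
  · exact prop_of_comap (fun (X : Scheme.{u}) (M : X.Modules) => CohB1.IsFP M)
      (fun X M N ⟨e⟩ hM => (SheafOfModules.isFinitePresentation X.ringCatSheaf).prop_of_iso e hM)
      (fun T ι Q g _ hg F _ hF => isFP_of_pullback g hg F hF) hπ G
  · intro η
    refine isLocallyFree_of_isFinLocFree _ ?_
    refine prop_of_comap (fun (X : Scheme.{u}) (M : X.Modules) => FlatMod.IsFinLocFree M) (fun X M N ⟨e⟩ hM x => ?_)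
      (fun T ι Q g _ hg F _ hF => Desc59.ModDesc.isFinLocFree_of_pullback g hg F hF) hπ G (fun ξ => ?_) η
    · obtain ⟨U, n, hx, ⟨a⟩⟩ := hM x
      exact ⟨U, n, hx, ⟨(Scheme.Modules.restrictFunctor U.ι).mapIso e.symm ≪≫ a⟩⟩
    · haveI : SheafOfModules.IsLocallyFree (R := (StMod.sch 𝒳 ξ).ringCatSheaf)
          ((StMod.Mod.comap π G.obj).obj ξ) := h1 ξ
      haveI : ((StMod.Mod.comap π G.obj).obj ξ).IsFiniteType := h2 ξ
      haveI : ((StMod.Mod.comap π G.obj).obj ξ).IsQuasicoherent := StMod.isLocQCoh_comap G.property.2 ξ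
      exact isFinLocFree_of_isLocallyFree _

end Groth.Agent.GerbFin99
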