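import Groth.Agent.FlatMor68.LocFree
import Groth.Agent.Props58.LocFree.FP
import Groth.Agent.Props58.LocFree.Affine
import Groth.Agent.QC70.FiniteType
import Groth.Agent.LF71.Restrict

/-!
Locally free modules of finite type in Mathlib's sense are the finite locally free ones.
-/

set_option autoImplicit false
set_option backward.isDefEq.respectTransparency.types false

noncomputable section

universe u

open CategoryTheory Limits AlgebraicGeometry TopologicalSpace Opposite

namespace Groth.Agent.GerbFin99

open QC70

variable {X : Scheme.{u}} (M : X.Modules)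

/-- A locally free module has, around every point, an affine open on which it is free. -/
theorem exists_affine_free [SheafOfModules.IsLocallyFree (R := X.ringCatSheaf) M] (x : X) :
    ∃ (U : X.Opens) (hU : IsAffineOpen U) (I : Type u), x ∈ U ∧
      Nonempty (specRes M hU ≅ SheafOfModules.free.{u} (R := (Spec Γ(X, U)).ringCatSheaf) I) := by
  obtain ⟨σ, hσ⟩ := SheafOfModules.IsLocallyFree.exists_isLocallyFreeData (M := M)
  have hcov : IsOpenCover σ.X := (Opens.coversTop_iff _ _).mp σ.coversTop
  obtain ⟨k, hpk⟩ := hcov.exists_mem x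
  let V : X.Opens := σ.X k
  let E := Scheme.Modules.overEquiv V
  have : IsIso (σ.generators k).π := hσ.isIso k
  let e₀ : SheafOfModules.free.{u} (R := V.toScheme.ringCatSheaf) (σ.generators k).I ≅ M.restrict V.ι :=
    SheafOfModules.mapFreeIso E.functor (σ.generators k).I
        (V.sheafOfModulesEquivOverUnit X.ringCatSheaf).symm ≪≫
      E.functor.mapIso (asIso (σ.generators k).π) ≪≫ (Scheme.Modules.overFunctorEquiv V).app M
  obtain ⟨U, hU, hxU, hUV⟩ := exists_isAffineOpen_mem_and_subset (x := x) (U := V) hpk
  let j : Spec Γ(X, U) ⟶ V.toScheme := hU.isoSpec.inv ≫ X.homOfLE hUV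
  have hj : j ≫ V.ι = hU.fromSpec := by
    simp [j, IsAffineOpen.isoSpec_inv_ι]
  let F : SheafOfModules.{u} V.toScheme.ringCatSheaf ⥤ SheafOfModules.{u} (Spec Γ(X, U)).ringCatSheaf :=
    Scheme.Modules.restrictFunctor j
  haveI : PreservesColimitsOfSize.{u, u} F :=
    (Scheme.Modules.restrictAdjunction j).leftAdjoint_preservesColimits
  let η : SheafOfModules.unit.{u} (Spec Γ(X, U)).ringCatSheaf ≅
      F.obj (SheafOfModules.unit.{u} V.toScheme.ringCatSheaf) :=
    (Scheme.Modules.restrictUnitIso j).symm
  let e₁ : SheafOfModules.free.{u} (R := (Spec Γ(X, U)).ringCatSheaf) (σ.generators k).I ≅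
      F.obj (SheafOfModules.free.{u} (R := V.toScheme.ringCatSheaf) (σ.generators k).I) :=
    SheafOfModules.mapFreeIso F (σ.generators k).I η
  exact ⟨U, hU, (σ.generators k).I, hxU,
    ⟨(Scheme.Modules.restrictFunctorCongr hj.symm).app M ≪≫
      (Scheme.Modules.restrictFunctorComp j V.ι).app M ≪≫
      ((Scheme.Modules.restrictFunctor j).mapIso e₀).symm ≪≫ e₁.symm⟩⟩

/-- Locally free and of finite type implies finite locally free. -/
theorem isFinLocFree_of_isLocallyFree [M.IsQuasicoherent] [M.IsFiniteType]
    [SheafOfModules.IsLocallyFree (R := X.ringCatSheaf) M] : FlatMod.IsFinLocFree M := by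
  refine FlatMor68.LocFree.isFinLocFree_of_projective_sections M fun x => ?_
  obtain ⟨U, hU, I, hx, ⟨e⟩⟩ := exists_affine_free M x
  haveI : Module.Finite Γ(X, U) Γ(M, U) := finite_sections_of_isFiniteType M hU
  refine ⟨U, hU, hx, ?_, inferInstance⟩
  let R := Γ(X, U)
  let e' : tilde (moduleSpecΓFunctor.obj (specRes M hU)) ≅ tilde (ModuleCat.of R (I →₀ R)) :=
    tildeIsoSpecRes M hU ≪≫ e ≪≫ (tildeFinsupp I).symm
  let l := ((tilde.fullyFaithfulFunctor).preimageIso e').toLinearEquiv
  exact Module.Projective.of_equiv (l.symm.trans (FlatMor68.LocFree.specGammaEquiv M hU))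

/-- Finite locally free implies locally free. -/
theorem isLocallyFree_of_isFinLocFree (h : FlatMod.IsFinLocFree M) :
    SheafOfModules.IsLocallyFree (R := X.ringCatSheaf) M := by
  choose U n hx e using h
  have key : ∀ x : X, ∃ (ι : Type u), Nonempty
      (SheafOfModules.free.{u} (R := X.ringCatSheaf.over (U x)) ι ≅ SheafOfModules.over M (U x)) := fun x => by
    let E := Scheme.Modules.overEquiv (U x)
    let ι : Type u := ULift.{u} (Fin (n x))
    let a : SheafOfModules.free.{u} (R := (U x).toScheme.ringCatSheaf) ι ≅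
        E.functor.obj (SheafOfModules.over M (U x)) :=
      (Sigma.whiskerEquiv (g := fun _ : Fin (n x) => Coh.structureModule (U x).toScheme) Equiv.ulift
          (fun _ => Iso.refl _)) ≪≫
        (e x).some.symm ≪≫ ((Scheme.Modules.overFunctorEquiv (U x)).app M).symm
    exact ⟨ι, ⟨SheafOfModules.mapFreeIso E.inverse ι
        ((E.unitIso.app _) ≪≫ E.inverse.mapIso ((U x).sheafOfModulesEquivOverUnit X.ringCatSheaf)) ≪≫
      E.inverse.mapIso a ≪≫ (E.unitIso.app _).symm⟩⟩
  choose ι a using key
  let σ : SheafOfModules.LocalGeneratorsData M :=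
    { I := X
      X := U
      coversTop := (Opens.coversTop_iff _ _).mpr
        (IsOpenCover.mk (top_le_iff.mp fun x _ => Opens.mem_iSup.mpr ⟨x, hx x⟩))
      generators := fun x =>
        (SheafOfModules.free.generatingSections (R := X.ringCatSheaf.over (U x)) (ι x)).ofEpi (a x).some.hom }
  haveI : σ.IsLocallyFreeData := by
    constructor
    intro x
    let G := SheafOfModules.free.generatingSections (R := X.ringCatSheaf.over (U x)) (ι x)
    have hπ : (σ.generators x).π = G.π ≫ (a x).some.hom :=
      (SheafOfModules.freeHomEquiv_symm_comp (M := SheafOfModules.free (ι x)) G.s (a x).some.hom).symm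
    have hG : G.π = 𝟙 _ := SheafOfModules.free.generatingSections_π (ι x)
    rw [hπ, hG]
    change IsIso (𝟙 (SheafOfModules.free (ι x)) ≫ (a x).some.hom)
    infer_instance
  exact σ.isLocallyFree

end Groth.Agent.GerbFin99
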